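import Cfsg.Agent.ClassicalMax.SU3.Base

/-!
A unipotent element of degree two of a three-dimensional unitary group over a quadratic extension of a prime field
gives a centre.
-/

set_option autoImplicit false
set_option linter.unusedSectionVars false

namespace Cfsg.Agent.ClassicalMax.SU3

open Cfsg.Agent.Classical Cfsg.Agent.ClassicalMax Cfsg.Agent.ClassicalMax.Unitary Module

variable {F V : Type*} [Field F] [AddCommGroup V] [Module F V] {σ : F →+* F} {B : V →ₛₗ[σ] V →ₗ[F] F}
  [Finite F] [FiniteDimensional F V]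

/-- over a prime field every fixed element is a natural number -/
theorem exists_natCast_of_fix {p : ℕ} [Fact p.Prime] [CharP F p] (hfix : Nat.card (Herm.fixField σ) = p) {r : F}
    (hr : σ r = r) : ∃ n : ℕ, (n : F) = r := by
  let f : ZMod p → Herm.fixField σ := fun x =>
    ⟨ZMod.castHom (dvd_refl p) F x, Herm.mem_fixField.2 (by
      obtain ⟨n, rfl⟩ := ZMod.natCast_zmod_surjective x
      rw [map_natCast, map_natCast])⟩
  have hinj : Function.Injective f := fun x y h => (ZMod.castHom (dvd_refl p) F).injective (congrArg Subtype.val h)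
  obtain ⟨x, hx⟩ := ((Nat.bijective_iff_injective_and_card f).2 ⟨hinj, by rw [Nat.card_zmod, hfix]⟩).2 ⟨r, hr⟩
  obtain ⟨n, rfl⟩ := ZMod.natCast_zmod_surjective x
  exact ⟨n, by rw [← show ZMod.castHom (dvd_refl p) F (n : ZMod p) = r from congrArg Subtype.val hx, map_natCast]⟩

/-- a centre from a unipotent element of degree two -/
theorem exists_centre_of_sq (hB : Herm.IsHerm B) (h3 : finrank F V ≤ 3) {p : ℕ} [Fact p.Prime] [CharP F p]
    (hfix : Nat.card (Herm.fixField σ) = p) {M : Subgroup (V ≃ₗ[F] V)} {g : V ≃ₗ[F] V} (hg : g ∈ M)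
    (hiso : ∀ x y, B (g x) (g y) = B x y) (hne : g ≠ 1) (hsq : ∀ x, g (g x - x) = g x - x) :
    ∃ e, e ≠ 0 ∧ e ∈ centres B M := by
  set f : V →ₗ[F] V := g.toLinearMap - LinearMap.id with hf
  have hfa : ∀ x, f x = g x - x := fun x => rfl
  have hgx : ∀ x, g x = x + f x := fun x => by rw [hfa, add_sub_cancel]
  have hff : ∀ x, f (f x) = 0 := fun x => by rw [hfa (f x), hfa x, hsq, sub_self]
  have key : ∀ x y, B (f x) y + B x (f y) + B (f x) (f y) = 0 := fun x y => by
    have h := hiso x y
    rw [hgx, hgx] at h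
    simp only [map_add, LinearMap.add_apply] at h
    linear_combination h
  have hTS : ∀ x y, B (f x) (f y) = 0 := fun x y => by
    have h := key x (f y)
    rw [hff, map_zero, map_zero, add_zero, add_zero] at h
    exact h
  obtain ⟨x₁, hx₁⟩ : ∃ x, f x ≠ 0 := by
    by_contra! h
    exact hne (LinearEquiv.ext fun x => by rw [hgx, h, add_zero]; rfl)
  set v := f x₁ with hv
  have hvv : B v v = 0 := hTS _ _
  choose φ hφ using fun x => orth_dep hB h3 hx₁ hvv (hTS x x) (hTS x₁ x)
  obtain ⟨x₀, hx₀⟩ : ∃ x, B x v = 1 := by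
    obtain ⟨y, hy⟩ : ∃ y, B v y ≠ 0 := by by_contra! h; exact hx₁ (hB.nondeg v h)
    refine ⟨(σ (B y v))⁻¹ • y, ?_⟩
    rw [map_smulₛₗ, LinearMap.smul_apply, smul_eq_mul, map_inv₀, hB.invol, inv_mul_cancel₀]
    exact fun h => hy (by rw [← hB.symm, h, map_zero])
  have hrep : ∀ y, φ y = -σ (φ x₀) * B v y := fun y => by
    have h := key x₀ y
    rw [hTS, add_zero, ← hφ x₀, ← hφ y, map_smulₛₗ, LinearMap.smul_apply, map_smul, smul_eq_mul, smul_eq_mul, hx₀,
      mul_one] at h
    linear_combination h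
  set c := -σ (φ x₀) with hc
  have hskew : c + σ c = 0 := by
    have h := hrep x₀
    rw [show B v x₀ = 1 by rw [← hB.symm, hx₀, map_one], mul_one] at h
    rw [hc] at h ⊢
    rw [map_neg, hB.invol]
    linear_combination -h
  have hgt : g = Herm.tvU hvv c := LinearEquiv.ext fun x => by
    rw [Herm.tvU_apply, hgx, ← hφ x, hrep]
  have hc0 : c ≠ 0 := fun h0 => hne (by
    refine LinearEquiv.ext fun x => ?_
    rw [hgt, Herm.tvU_apply, h0, zero_mul, zero_smul, add_zero]; rfl)
  have hpow : ∀ n : ℕ, g ^ n = Herm.tvU hvv ((n : F) * c) := fun n => by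
    induction n with
    | zero =>
      refine LinearEquiv.ext fun x => ?_
      rw [pow_zero, Herm.tvU_apply, Nat.cast_zero, zero_mul, zero_mul, zero_smul, add_zero]; rfl
    | succ n ih =>
      refine LinearEquiv.ext fun x => ?_
      rw [pow_succ, ih, LinearEquiv.mul_apply, hgt]
      simp only [Herm.tvU_apply, map_add, map_smul, hvv, smul_zero, add_zero, Nat.cast_succ, smul_eq_mul, mul_zero]
      module
  refine ⟨v, hx₁, hvv, fun hv' c' hc' => ?_⟩
  have hr : σ (c' / c) = c' / c := by
    rw [map_div₀, show σ c' = -c' by linear_combination hc', show σ c = -c by linear_combination hskew, neg_div_neg_eq]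
  obtain ⟨n, hn⟩ := exists_natCast_of_fix hfix hr
  have h := pow_mem hg n
  rwa [hpow, hn, div_mul_cancel₀ _ hc0] at h

end Cfsg.Agent.ClassicalMax.SU3
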