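import Mathlib
import Cfsg.Agent.ClassicalMax.Hessian.Main
import Cfsg.Agent.Classical.HermForm

/-!
The model of the group of order 27 inside the standard unitary group, and small subgroups of characteristic exponent.
-/

set_option autoImplicit false
set_option linter.unusedSectionVars false

namespace Cfsg.Agent.ClassicalMax.SU3.Hess

open Matrix SympThree Cfsg.Agent.Classical
open scoped MatrixGroups

variable {F : Type*} [Field F] {σ : F →+* F}

/-- the conjugate transpose -/
def ctr {ι : Type*} (σ : F →+* F) (A : Matrix ι ι F) : Matrix ι ι F := (A.map σ)ᵀ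

variable {ι : Type*} [Fintype ι] [DecidableEq ι]

theorem ctr_mul (A B : Matrix ι ι F) : ctr σ (A * B) = ctr σ B * ctr σ A := by
  rw [ctr, Matrix.map_mul, Matrix.transpose_mul]; rfl

theorem ctr_one : ctr σ (1 : Matrix ι ι F) = 1 := by
  rw [ctr, Matrix.map_one _ (map_zero σ) (map_one σ), Matrix.transpose_one]

theorem ctr_add (A B : Matrix ι ι F) : ctr σ (A + B) = ctr σ A + ctr σ B := by
  rw [ctr, Matrix.map_add _ (map_add σ), Matrix.transpose_add]; rfl

theorem ctr_smul (a : F) (A : Matrix ι ι F) : ctr σ (a • A) = σ a • ctr σ A := by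
  ext i j
  simp [ctr]

/-- the standard unitary group -/
def U3 (σ : F →+* F) : Subgroup (GL ι F) where
  carrier := {g | ctr σ (g : Matrix ι ι F) * (g : Matrix ι ι F) = 1}
  one_mem' := by rw [Set.mem_setOf_eq, Units.val_one, ctr_one, one_mul]
  mul_mem' {a b} ha hb := by
    rw [Set.mem_setOf_eq] at *
    rw [Units.val_mul, ctr_mul, Matrix.mul_assoc, ← Matrix.mul_assoc _ (a : Matrix ι ι F), ha, one_mul, hb]
  inv_mem' {a} ha := by
    rw [Set.mem_setOf_eq] at *
    have h1 : ctr σ (a : Matrix ι ι F) = ((a⁻¹ : GL ι F) : Matrix ι ι F) :=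
      left_inv_eq_right_inv ha (by rw [← Units.val_mul, mul_inv_cancel, Units.val_one])
    nth_rewrite 2 [← h1]
    rw [← ctr_mul, ← Units.val_mul, mul_inv_cancel, Units.val_one, ctr_one]

theorem mem_U3 {g : GL ι F} : g ∈ U3 σ ↔ ctr σ (g : Matrix ι ι F) * (g : Matrix ι ι F) = 1 := Iff.rfl

variable (K : Root F) (hl : σ (K.l : F) = (K.l : F) * K.l)
include hl

theorem sigma_e (a : Z3) : σ (K.e a : F) = K.e (-a) := by
  rcases z3_cases a with rfl | rfl | rfl
  · rw [neg_zero, Root.eval0, map_one]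
  · rw [show -(1 : Z3) = 2 by decide, Root.e_one, Root.e_two, Units.val_pow_eq_pow_val, hl, pow_two]
  · rw [show -(2 : Z3) = 1 by decide, Root.e_one, Root.e_two, Units.val_pow_eq_pow_val, map_pow, hl]
    have h3 : (K.l : F) ^ 3 = 1 := by rw [← Units.val_pow_eq_pow_val, K.cubeU, Units.val_one]
    linear_combination (K.l : F) * h3

theorem W_mem (a b : Z3) : K.W a b ∈ U3 σ := by
  rw [mem_U3]
  ext z w
  rw [Matrix.mul_apply, Finset.sum_eq_single (z + b)]
  · rw [ctr, Matrix.transpose_apply, Matrix.map_apply, Root.W_val, Root.W_val, if_pos rfl, sigma_e K hl,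
      Matrix.one_apply]
    by_cases h : z = w
    · subst h
      rw [if_pos rfl, if_pos rfl, ← Units.val_mul, ← K.e_add, neg_add_cancel, Root.eval0]
    · rw [if_neg (fun e => h (add_right_cancel e)), if_neg h, mul_zero]
  · intro x _ hx
    rw [ctr, Matrix.transpose_apply, Matrix.map_apply, Root.W_val, if_neg hx, map_zero, zero_mul]
  · simp

theorem T_mem : (Root.T : GL Z3 F) ∈ U3 σ := by
  rw [mem_U3]
  ext z w
  rw [Matrix.mul_apply, Finset.sum_eq_single (-z)]
  · rw [ctr, Matrix.transpose_apply, Matrix.map_apply, Root.T_val, Root.T_val, if_pos rfl, Matrix.one_apply,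
      map_neg, map_one]
    by_cases h : z = w
    · subst h
      rw [if_pos rfl, if_pos rfl, neg_mul_neg, one_mul]
    · rw [if_neg (fun e => h (neg_injective e)), if_neg h, mul_zero]
  · intro x _ hx
    rw [ctr, Matrix.transpose_apply, Matrix.map_apply, Root.T_val, if_neg hx, map_zero, zero_mul]
  · simp

theorem Dg_mem (x : Z3) : K.Dg x ∈ U3 σ := by
  rw [mem_U3]
  ext z w
  rw [Matrix.mul_apply, Finset.sum_eq_single z]
  · rw [ctr, Matrix.transpose_apply, Matrix.map_apply, Root.Dg_val, Root.Dg_val, if_pos rfl, Matrix.one_apply]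
    by_cases h : z = w
    · subst h
      rw [if_pos rfl, if_pos rfl]
      split_ifs
      · rw [sigma_e K hl, ← Units.val_mul, ← K.e_add, neg_add_cancel, Root.eval0]
      · rw [map_one, one_mul]
    · rw [if_neg h, if_neg h, mul_zero]
  · intro y _ hy
    rw [ctr, Matrix.transpose_apply, Matrix.map_apply, Root.Dg_val, if_neg hy, map_zero, zero_mul]
  · simp

theorem Fr_mem : K.Fr ∈ U3 σ := by
  rw [mem_U3]
  ext z w
  rw [Matrix.mul_apply]
  simp only [ctr, Matrix.transpose_apply, Matrix.map_apply, Root.Fr_val, map_mul, sigma_e K hl, map_inv₀, map_sub,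
    map_one, hl]
  have h1 : (1 - (K.l : F)) ≠ 0 := sub_ne_zero.2 K.ne_one.symm
  have h2 : (1 - (K.l : F) * K.l) ≠ 0 := by
    have h := (map_ne_zero σ).2 h1
    rwa [map_sub, map_one, hl] at h
  have h3 := K.three
  have e : ∀ x : Z3, (1 - (K.l : F) * K.l)⁻¹ * (K.e (-(x * z)) : F) * ((1 - (K.l : F))⁻¹ * K.e (x * w)) =
      (3 : F)⁻¹ * K.e ((w - z) * x) := fun x => by
    rw [show (w - z) * x = -(x * z) + x * w by ring, K.e_add, Units.val_mul]
    have hk : (1 - (K.l : F) * K.l) * (1 - (K.l : F)) = 3 := by linear_combination ((K.l : F) - 2) * K.eqn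
    rw [← hk, mul_inv]
    ring
  rw [sum_z3, e, e, e, Matrix.one_apply, mul_zero, mul_one, Root.eval0]
  by_cases h : z = w
  · subst h; rw [sub_self, zero_mul, Root.eval0, if_pos rfl]; field_simp; ring
  rw [if_neg h]
  rcases z3_cases (w - z) with d | d | d
  · exact absurd (sub_eq_zero.1 d).symm h
  · rw [d, one_mul, Root.eval1, Root.eval2]; linear_combination (3 : F)⁻¹ * K.eqn
  · rw [d, show (2 : Z3) * 2 = 1 by decide, Root.eval1, Root.eval2]; linear_combination (3 : F)⁻¹ * K.eqn

omit hl in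
/-- without transvections the subgroups of characteristic exponent are small -/
theorem small_of_nt [Fintype F] [NeZero (2 : F)] {p : ℕ} [Fact p.Prime] [CharP F p] (h3 : 3 ≤ p)
    (hfix : Nat.card (Herm.fixField σ) = p) {M : Subgroup (GL Z3 F)} (hU : M ≤ U3 σ)
    (nt : ∀ g ∈ M, ((g : Matrix Z3 Z3 F) - 1) * ((g : Matrix Z3 Z3 F) - 1) = 0 → g = 1) :
    ∀ S : Subgroup (GL Z3 F), S ≤ M → IsPGroup p S → Nat.card S ≤ p := by
  classical
  intro S hSM hS
  have hp := (Fact.out : p.Prime)
  by_contra hgt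
  push Not at hgt
  obtain ⟨k, hk⟩ := IsPGroup.iff_card.1 hS
  have hk2 : 2 ≤ k := by
    by_contra hk2
    have : p ^ k ≤ p ^ 1 := Nat.pow_le_pow_right hp.pos (by omega)
    rw [pow_one] at this
    omega
  obtain ⟨U0, hU0⟩ := Sylow.exists_subgroup_card_pow_prime (G := S) p (n := 2) (hk ▸ pow_dvd_pow p hk2)
  set U := U0.map S.subtype with hUdef
  have hUc : Nat.card U = p ^ 2 := by rw [hUdef, Subgroup.card_subtype, hU0]
  have hUM : U ≤ M := (Subgroup.map_subtype_le _).trans hSM
  have hab : ∀ x y : U, x * y = y * x := IsPGroup.commutative_of_card_eq_prime_sq hUc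
  obtain ⟨y0, hy0⟩ := exists_prime_orderOf_dvd_card' (G := U) p (hUc ▸ dvd_pow_self p two_ne_zero)
  set y : GL Z3 F := (y0 : GL Z3 F) with hy
  have hyo : orderOf y = p := by rw [hy, Subgroup.orderOf_coe, hy0]
  have hN2 : ((y : Matrix Z3 Z3 F) - 1) * ((y : Matrix Z3 Z3 F) - 1) ≠ 0 := fun e => by
    rw [nt y (hUM y0.2) e, orderOf_one] at hyo
    exact hp.one_lt.ne hyo
  obtain ⟨hN3, hpoly⟩ := Hessian.regular_unip (p := p) (hyo ▸ pow_orderOf_eq_one y) hN2
  set N : Matrix Z3 Z3 F := (y : Matrix Z3 Z3 F) - 1 with hN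
  have hxy : ∀ x : U, (x : GL Z3 F) * y = y * x := fun x => congrArg Subtype.val (hab x y0)
  choose a b c habc using fun x : U => hpoly x (hxy x)
  have hn3 : N * (N * N) = 0 := by rw [← pow_two, ← pow_succ', hN3]
  have hNp : N ^ p = 0 := pow_eq_zero_of_le h3 hN3
  have ha : ∀ x : U, a x = 1 := by
    intro x
    obtain ⟨k, hk⟩ := (IsPGroup.of_card hUc) x
    have hk' : (x : GL Z3 F) ^ p ^ k = 1 := by simpa using congrArg Subtype.val hk
    have hgp : ((x : GL Z3 F) : Matrix Z3 Z3 F) ^ p = a x ^ p • 1 := by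
      rw [habc]
      have c1 : Commute (a x • (1 : Matrix Z3 Z3 F) + b x • N) (c x • (N * N)) :=
        ((((Commute.one_left (N * N)).smul_left (a x)).add_left
          (((Commute.refl N).mul_right (Commute.refl N)).smul_left (b x)))).smul_right (c x)
      rw [add_pow_char_of_commute p c1, add_pow_char_of_commute p (((Commute.one_left N).smul_left (a x)).smul_right (b x)),
        smul_pow, smul_pow, smul_pow, one_pow, (Commute.refl N).mul_pow, hNp, zero_mul, smul_zero, smul_zero, add_zero,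
        add_zero]
    have e := congrArg (fun u : GL Z3 F => (u : Matrix Z3 Z3 F)) hk'
    simp only [Units.val_pow_eq_pow_val, Units.val_one] at e
    have hak : a x ^ p ^ k = 1 := by
      rcases Nat.eq_zero_or_pos k with rfl | hkpos
      · rw [pow_zero, pow_one, habc] at e
        have h' := congrArg (fun X : Matrix Z3 Z3 F => X * (N * N)) e
        simp only [Matrix.add_mul, Matrix.smul_mul, Matrix.one_mul, Matrix.mul_assoc, hn3, Matrix.mul_zero, smul_zero,
          add_zero] at h'
        rw [pow_zero, pow_one]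
        exact (smul_left_injective F hN2) (h'.trans (one_smul F _).symm)
      · rw [show p ^ k = p * p ^ (k - 1) by rw [← pow_succ', Nat.sub_add_cancel hkpos], pow_mul, hgp, smul_pow,
          one_pow, ← pow_mul, ← pow_succ', Nat.sub_add_cancel hkpos] at e
        have := congrFun (congrFun e 0) 0
        simpa using this
    clear e hk hk'
    induction k with
    | zero => simpa using hak
    | succ j ih => exact ih (Hessian.eq_one_of_pow_char p (by rw [← pow_mul, ← pow_succ]; exact hak))
  -- the adjoint of the nilpotent part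
  have hctr : ctr σ N = N * N - N := by
    have h1 : ctr σ (y : Matrix Z3 Z3 F) * (y : Matrix Z3 Z3 F) = 1 := hU (hUM y0.2)
    have h2 : (y : Matrix Z3 Z3 F) * (1 - N + N * N) = 1 := by
      rw [show (y : Matrix Z3 Z3 F) = 1 + N by rw [hN, add_sub_cancel]]
      simp only [Matrix.mul_add, Matrix.mul_sub, Matrix.add_mul, Matrix.one_mul, Matrix.mul_one, hn3]
      abel
    have h4 := left_inv_eq_right_inv h1 h2
    rw [show (y : Matrix Z3 Z3 F) = 1 + N by rw [hN, add_sub_cancel], ctr_add, ctr_one] at h4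
    rw [← add_right_inj (1 : Matrix Z3 Z3 F), h4]
    abel
  have hfixb : ∀ x : U, b x ∈ Herm.fixField σ := fun x => by
    have h1 : ctr σ ((x : GL Z3 F) : Matrix Z3 Z3 F) * ((x : GL Z3 F) : Matrix Z3 Z3 F) = 1 := hU (hUM x.2)
    rw [habc, ha, ctr_add, ctr_add, ctr_smul, ctr_smul, ctr_smul, ctr_mul, hctr, ctr_one, map_one, one_smul] at h1
    have h2 := congrArg (fun X : Matrix Z3 Z3 F => X * N) h1
    have hn4 : N * (N * (N * N)) = 0 := by rw [hn3, Matrix.mul_zero]
    simp only [Matrix.mul_add, Matrix.add_mul, Matrix.mul_sub, Matrix.sub_mul, Matrix.smul_mul, Matrix.mul_smul,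
      Matrix.one_mul, Matrix.mul_one, Matrix.mul_assoc, hn3, hn4, Matrix.mul_zero, smul_zero, add_zero, zero_add,
      sub_zero, zero_sub, smul_sub, smul_neg, smul_add, neg_zero, Matrix.neg_mul, Matrix.mul_neg, neg_neg] at h2
    have h5 : (b x - σ (b x)) • (N * N) = 0 := by
      rw [sub_smul, ← sub_eq_zero.2 h2]
      abel
    rw [Herm.mem_fixField]
    exact (sub_eq_zero.1 ((smul_eq_zero.1 h5).resolve_right hN2)).symm
  have hxN : ∀ x : U, Commute ((x : GL Z3 F) : Matrix Z3 Z3 F) N := fun x => by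
    rw [habc]
    exact (((Commute.one_left N).smul_left _).add_left ((Commute.refl N).smul_left _)).add_left
      (((Commute.refl N).mul_left (Commute.refl N)).smul_left _)
  have hle := Nat.card_le_card_of_injective (fun x : U => (⟨b x, hfixb x⟩ : Herm.fixField σ)) fun x x' e => by
    have e' : b x = b x' := congrArg Subtype.val e
    have hw : ((x⁻¹ * x' : U) : GL Z3 F) = 1 := by
      refine nt _ (hUM (x⁻¹ * x').2) ?_
      have hd : ((x' : GL Z3 F) : Matrix Z3 Z3 F) - (x : GL Z3 F) = (c x' - c x) • (N * N) := by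
        rw [habc, habc, ha, ha, e', sub_smul]
        abel
      have h1 : (((x⁻¹ * x' : U) : GL Z3 F) : Matrix Z3 Z3 F) - 1 =
          (((x⁻¹ : U) : GL Z3 F) : Matrix Z3 Z3 F) * ((c x' - c x) • (N * N)) := by
        rw [← hd, Matrix.mul_sub, ← Units.val_mul, ← Units.val_mul, ← Subgroup.coe_mul, ← Subgroup.coe_mul,
          inv_mul_cancel, Subgroup.coe_one, Units.val_one]
      rw [h1, Matrix.mul_smul, Matrix.smul_mul, Matrix.mul_smul]
      have hcN : Commute (((x⁻¹ : U) : GL Z3 F) : Matrix Z3 Z3 F) (N * N) := (hxN x⁻¹).mul_right (hxN x⁻¹)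
      have h4 : N * N * (N * N) = 0 := by rw [Matrix.mul_assoc, hn3, Matrix.mul_zero]
      rw [hcN.eq, Matrix.mul_assoc, ← Matrix.mul_assoc _ (N * N), hcN.eq, Matrix.mul_assoc (N * N), ← Matrix.mul_assoc
        (N * N) (N * N), h4, Matrix.zero_mul, smul_zero, smul_zero]
    calc x = x * (x⁻¹ * x') := by rw [show x⁻¹ * x' = 1 from Subtype.ext hw, mul_one]
      _ = x' := mul_inv_cancel_left x x'
  rw [hUc, hfix] at hle
  nlinarith [hp.two_le]

end Cfsg.Agent.ClassicalMax.SU3.Hess
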