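import Cfsg.Agent.ClassicalMax.SU3.Hess.Centre
import Cfsg.Agent.ClassicalMax.SU3.Hess.Model

/-!
The normaliser of an extraspecial group of order 27 is maximal in the special unitary group of dimension three over a
field with the square of a prime number of elements.
-/

set_option autoImplicit false
set_option linter.unusedSectionVars false
set_option linter.style.haveILetI false

namespace Cfsg.Agent.ClassicalMax.SU3.Hess

open Matrix SympThree Cfsg.Agent.Classical Cfsg.Agent.ClassicalMax Module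
open scoped MatrixGroups

variable {F : Type*} [Field F] {σ : F →+* F}

theorem two_three : ∀ m : M2, Hessian.npw m 3 = m1 → Hessian.npw m 2 = m1 → m = m1 := by decide +kernel

/-- an element of large prime order does not normalise -/
theorem eq_one_of_nor [Finite F] [NeZero (2 : F)] (K : Root F) {p : ℕ} (hp : p.Prime) (h5 : 5 ≤ p) (h2 : p % 3 = 2) {t : GL Z3 F}
    (ht : t ^ p = 1) (hd : (t : Matrix Z3 Z3 F).det = 1) (hn : K.Nor t) : t = 1 := by
  obtain ⟨m, hm, hi⟩ := Hessian.nor_img K hn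
  have hmp : Hessian.npw m p = m1 := Hessian.img_unique K (Hessian.img_pow K hi p) (by rw [ht]; exact K.img_one)
  have h3 := Hessian.cube_of_odd hm (hp.odd_of_ne_two (by omega)) hmp
  have h3k : ∀ k, Hessian.npw m (3 * k) = m1 := fun k => by
    induction k with
    | zero => rfl
    | succ k ih => rw [Nat.mul_succ, Hessian.npw_add, ih, h3, (Hessian.comp_id _).1]
  have h2' : Hessian.npw m 2 = m1 := by
    rw [← Nat.div_add_mod p 3, h2, Hessian.npw_add, h3k, (Hessian.comp_id _).2] at hmp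
    exact hmp
  obtain rfl := two_three m h3 h2'
  have hR := Hessian.mem_Rg_of_img K hd hi
  have h27 : t ^ 27 = 1 := by
    rw [← Hessian.card_Rg K]
    exact congrArg Subtype.val (pow_card_eq_one' (x := (⟨t, hR⟩ : Hessian.Rg K)))
  have hcop : Nat.gcd 27 p = 1 := by
    refine Nat.Coprime.pow_left 3 ((Nat.coprime_primes Nat.prime_three hp).2 (by omega)) |>.gcd_eq_one
  have := pow_gcd_eq_one.2 ⟨h27, ht⟩
  rwa [hcop, pow_one] at this

theorem hermB_mulVec {n : ℕ} (A : Matrix (Fin n) (Fin n) F) (x y : Fin n → F) :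
    hermB n σ (A *ᵥ x) (A *ᵥ y) = (fun i => σ (x i)) ⬝ᵥ ((ctr σ A * A) *ᵥ y) := by
  rw [← Matrix.mulVec_mulVec, Matrix.dotProduct_mulVec, ctr, Matrix.vecMul_transpose, hermB_apply]
  refine Finset.sum_congr rfl fun i _ => ?_
  simp [Matrix.mulVec, dotProduct, map_sum, map_mul, Matrix.map_apply]

theorem iso_iff_ctr {n : ℕ} (A : Matrix (Fin n) (Fin n) F) :
    (∀ x y, hermB n σ (A *ᵥ x) (A *ᵥ y) = hermB n σ x y) ↔ ctr σ A * A = 1 := by
  constructor
  · intro h
    ext i j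
    have := h (Pi.single i 1) (Pi.single j 1)
    rw [hermB_mulVec, isON_single n i j] at this
    rw [Matrix.one_apply, ← this]
    simp [Pi.single_apply, apply_ite σ, dotProduct]
  · intro h x y
    rw [hermB_mulVec, h, Matrix.one_mulVec]
    rfl

variable [Fintype F] {p : ℕ}

/-- the normaliser of the group of order 27 is maximal in the special unitary group -/
theorem isMaximal (hp : p.Prime) (hF : Fintype.card F = p ^ 2) (hp3 : p % 3 = 2) (hp11 : 11 ≤ p)
    (R : Subgroup (Matrix.GeneralLinearGroup (Fin 3) F)) (hsym : Cfsg.Geo.IsSymplecticTypeGroup 3 R)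
    (hRsim : R ≤ Cfsg.Geo.similarityGroup (Cfsg.hermForm 3 F p)) (h27 : Nat.card R = 27)
    (hZ : Nat.card (Subgroup.center R) = 3) :
    Cfsg.Geo.IsMaximalIn (Cfsg.GU 3 F p ⊓ Cfsg.Geo.specialLinear (Fin 3) F)
      (Cfsg.Geo.subgroupNormalizer R ⊓ (Cfsg.GU 3 F p ⊓ Cfsg.Geo.specialLinear (Fin 3) F)) := by
  classical
  haveI : Fact p.Prime := ⟨hp⟩
  obtain ⟨σ, hσq, hσ, hFq, -⟩ := exists_powHom hF
  have hB := hermB_isHerm (n := 3) hσ
  haveI : CharP F p := by
    obtain ⟨r, hr⟩ := CharP.exists F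
    obtain ⟨n, hr', hn⟩ := FiniteField.card F r
    have hpr : p ∣ r := hp.dvd_of_dvd_pow (n := (n : ℕ)) (by rw [← hn, hF]; exact dvd_pow_self p two_ne_zero)
    rw [(Nat.prime_dvd_prime_iff_eq hp hr').1 hpr]; exact hr
  have hc : ∀ k : ℕ, 0 < k → k < 7 → (k : F) ≠ 0 := fun k h0 h7 e => by
    have := Nat.le_of_dvd h0 ((CharP.cast_eq_zero_iff F p k).1 e)
    omega
  have h2 : (2 : F) ≠ 0 := by exact_mod_cast hc 2 (by norm_num) (by norm_num)
  have h3 : (3 : F) ≠ 0 := by exact_mod_cast hc 3 (by norm_num) (by norm_num)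
  -- a cube root of one
  obtain ⟨w, hw⟩ : ∃ w : F, w * w + w + 1 = 0 := by
    obtain ⟨u, hu⟩ := exists_prime_orderOf_dvd_card (G := Fˣ) 3 (by
      rw [Fintype.card_units, hF]
      have h : p ^ 2 % 3 = 1 := by rw [Nat.pow_mod, hp3]
      omega)
    refine ⟨u, ?_⟩
    have h1 : (u : F) ^ 3 = 1 := by rw [← Units.val_pow_eq_pow_val, ← hu, pow_orderOf_eq_one, Units.val_one]
    have hne : (u : F) - 1 ≠ 0 := fun h => by
      rw [show u = 1 from Units.ext (sub_eq_zero.1 h), orderOf_one] at hu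
      norm_num at hu
    exact (mul_eq_zero.1 (show ((u : F) - 1) * ((u : F) * u + u + 1) = 0 by linear_combination h1)).resolve_left hne
  have hexp : Monoid.exponent R = 3 := hsym.exponent_eq.trans (by norm_num)
  have hna : ¬ IsMulCommutative R := fun h => by
    have htop : Subgroup.center R = ⊤ :=
      eq_top_iff.2 fun x _ => Subgroup.mem_center_iff.2 fun y => h.is_comm.comm y x
    rw [htop, Subgroup.card_top, h27] at hZ
    norm_num at hZ
  obtain ⟨l, a, b, G, hl, ha, hb, hcl, hA, hBS, -⟩ := Extra27.exists_frame hw h3 h27 hexp hna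
  have hl0 : l ≠ 0 := fun h => by rw [h] at hl; simp at hl
  haveI : NeZero (2 : F) := ⟨h2⟩
  let K : Root F := ⟨Units.mk0 l hl0, hl, h3⟩
  have hl3 : (K.l : F) ^ 3 = 1 := by rw [← Units.val_pow_eq_pow_val, K.cubeU, Units.val_one]
  have hσl : σ (K.l : F) = (K.l : F) * K.l := by
    rw [hσq, ← Nat.div_add_mod p 3, hp3, pow_add, pow_mul, hl3, one_pow, one_mul, pow_two]
  -- similarities of exponent three are isometries
  have hRU : ∀ g ∈ R, g ∈ U3 σ := by
    intro g hg
    obtain ⟨μ, hμ⟩ := hRsim hg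
    have hμ' : ∀ x y, hermB 3 σ (g.1 *ᵥ x) (g.1 *ᵥ y) = (μ : F) * hermB 3 σ x y := fun x y => by
      rw [← hermForm_eq hσq, ← hermForm_eq hσq, hμ]
    have hfix : σ (μ : F) = μ := by
      have h := hμ' (Pi.single 0 1) (Pi.single 0 1)
      rw [isON_single 3 0 0, if_pos rfl, mul_one] at h
      rw [← h, Herm.fix_self hB]
    have hg3 : (g.1 : Matrix (Fin 3) (Fin 3) F) * (g.1 * g.1) = 1 := by
      have h := congrArg Subtype.val (Monoid.pow_exponent_eq_one (⟨g, hg⟩ : R))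
      rw [hexp, Subgroup.coe_pow, Subgroup.coe_one] at h
      rw [← Units.val_mul, ← Units.val_mul, ← pow_two, ← pow_succ', h, Units.val_one]
    have h3μ : (μ : F) * (μ * μ) = 1 := by
      have h := hμ' (g.1 *ᵥ (g.1 *ᵥ Pi.single 0 1)) (g.1 *ᵥ (g.1 *ᵥ Pi.single 0 1))
      rw [hμ' (g.1 *ᵥ Pi.single 0 1), hμ' (Pi.single 0 1)] at h
      simp only [Matrix.mulVec_mulVec, hg3, Matrix.one_mulVec, isON_single (σ := σ) 3 0 0, if_pos, mul_one] at h
      exact h.symm
    have h2μ : (μ : F) * μ = μ := by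
      conv_rhs => rw [← hfix, hσq, ← Nat.div_add_mod p 3, hp3, pow_add, pow_mul,
        show (μ : F) ^ 3 = 1 by rw [← h3μ]; ring, one_pow, one_mul, pow_two]
    have h1μ : (μ : F) = 1 := mul_right_cancel₀ μ.ne_zero (by rw [one_mul]; exact h2μ)
    exact (iso_iff_ctr _).1 fun x y => by rw [hμ', h1μ, one_mul]
  let c : GL (Fin 3) F ≃* GL Z3 F := (MulAut.conj G⁻¹).trans (MulEquiv.refl (GL (Fin 3) F))
  have hcv : ∀ x : GL (Fin 3) F, (c x : Matrix Z3 Z3 F) =
      ((G⁻¹ * x * G : GL (Fin 3) F) : Matrix (Fin 3) (Fin 3) F) := fun x => by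
    show ((G⁻¹ * x * G⁻¹⁻¹ : GL (Fin 3) F) : Matrix (Fin 3) (Fin 3) F) = _
    rw [inv_inv]
  have hdet : ∀ x : GL (Fin 3) F, (c x : Matrix Z3 Z3 F).det = (x : Matrix (Fin 3) (Fin 3) F).det := fun x => by
    rw [hcv]
    show (((G⁻¹ * x * G : GL (Fin 3) F) : Matrix (Fin 3) (Fin 3) F)).det = _
    rw [Units.val_mul, Units.val_mul, Matrix.det_units_conj']
  have hca : c a = K.W 1 0 := Units.ext (by
    rw [hcv, Units.val_mul, Units.val_mul, Matrix.mul_assoc, hA, ← Matrix.mul_assoc, ← Units.val_mul, inv_mul_cancel,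
      Units.val_one, Matrix.one_mul]
    refine Matrix.ext fun z x => ?_
    refine Eq.trans ?_ (Root.W_val K 1 0 z x).symm
    have hh : ∀ i j : Fin 3, Extra27.modA l i j = if i = j + 0 then (K.l : F) ^ (((1 : Fin 3) * i : Fin 3) : ℕ) else 0 := by
      intro i j
      fin_cases i <;> fin_cases j <;> simp +decide [Extra27.modA, Matrix.diagonal, K] <;> rfl
    refine (hh z x).trans ?_
    by_cases h1 : z = x + 0
    · exact ((if_pos h1).trans (Units.val_pow_eq_pow_val _ _).symm).trans (if_pos h1).symm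
    · exact (if_neg h1).trans (if_neg h1).symm)
  have hcb : c b = K.W 0 1 := Units.ext (by
    rw [hcv, Units.val_mul, Units.val_mul, Matrix.mul_assoc, hBS, ← Matrix.mul_assoc, ← Units.val_mul, inv_mul_cancel,
      Units.val_one, Matrix.one_mul]
    refine Matrix.ext fun z x => ?_
    refine Eq.trans ?_ (Root.W_val K 0 1 z x).symm
    have hh : ∀ i j : Fin 3, (Extra27.modS : Matrix (Fin 3) (Fin 3) F) i j = if i = j + 1 then (K.l : F) ^ (((0 : Fin 3) * i : Fin 3) : ℕ) else 0 := by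
      intro i j
      fin_cases i <;> fin_cases j <;> simp +decide [Extra27.modS, K] <;> rfl
    refine (hh z x).trans ?_
    by_cases h1 : z = x + 1
    · exact ((if_pos h1).trans (Units.val_pow_eq_pow_val _ _).symm).trans (if_pos h1).symm
    · exact (if_neg h1).trans (if_neg h1).symm)
  -- the form in the frame
  set H : Matrix (Fin 3) (Fin 3) F := ctr σ (G : Matrix (Fin 3) (Fin 3) F) * (G : Matrix (Fin 3) (Fin 3) F) with hH
  have hGd : ∀ x : GL (Fin 3) F, ctr σ ((G⁻¹ * x * G : GL (Fin 3) F) : Matrix (Fin 3) (Fin 3) F) * H *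
      ((G⁻¹ * x * G : GL (Fin 3) F) : Matrix (Fin 3) (Fin 3) F) =
      ctr σ (G : Matrix (Fin 3) (Fin 3) F) * (ctr σ (x : Matrix (Fin 3) (Fin 3) F) * (x : Matrix (Fin 3) (Fin 3) F)) *
        (G : Matrix (Fin 3) (Fin 3) F) := fun x => by
    have e : (G : Matrix (Fin 3) (Fin 3) F) * ((G⁻¹ * x * G : GL (Fin 3) F) : Matrix (Fin 3) (Fin 3) F) =
        (x : Matrix (Fin 3) (Fin 3) F) * (G : Matrix (Fin 3) (Fin 3) F) := by
      rw [← Units.val_mul, ← Units.val_mul, mul_assoc G⁻¹, mul_inv_cancel_left]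
    calc ctr σ ((G⁻¹ * x * G : GL (Fin 3) F) : Matrix (Fin 3) (Fin 3) F) * H *
          ((G⁻¹ * x * G : GL (Fin 3) F) : Matrix (Fin 3) (Fin 3) F)
        = ctr σ ((G : Matrix (Fin 3) (Fin 3) F) * ((G⁻¹ * x * G : GL (Fin 3) F) : Matrix (Fin 3) (Fin 3) F)) *
          ((G : Matrix (Fin 3) (Fin 3) F) * ((G⁻¹ * x * G : GL (Fin 3) F) : Matrix (Fin 3) (Fin 3) F)) := by
          rw [ctr_mul, hH]; simp only [Matrix.mul_assoc]
      _ = _ := by rw [e, ctr_mul]; simp only [Matrix.mul_assoc]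
  obtain ⟨HZ, hHZ⟩ : ∃ HZ : Matrix Z3 Z3 F, HZ = H := ⟨_, rfl⟩
  have hinv : ∀ x ∈ R, ctr σ (c x : Matrix Z3 Z3 F) * HZ * (c x : Matrix Z3 Z3 F) = HZ := fun x hx => by
    rw [hcv, hHZ]
    exact (hGd x).trans (by rw [hRU x hx, Matrix.mul_one])
  have hent : ∀ (u v z w : Z3), (ctr σ (K.W u v : Matrix Z3 Z3 F) * HZ * (K.W u v : Matrix Z3 Z3 F)) z w =
      (K.e (-(u * (z + v))) : F) * HZ (z + v) (w + v) * K.e (u * (w + v)) := fun u v z w => by
    rw [Matrix.mul_apply, Finset.sum_eq_single (w + v) (fun y _ hy => by rw [Root.W_val, if_neg hy, mul_zero]) (by simp),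
      Matrix.mul_apply, Finset.sum_eq_single (z + v) (fun y _ hy => by
        rw [ctr, Matrix.transpose_apply, Matrix.map_apply, Root.W_val, if_neg hy, map_zero, zero_mul]) (by simp),
      ctr, Matrix.transpose_apply, Matrix.map_apply, Root.W_val, Root.W_val, if_pos rfl, if_pos rfl, sigma_e K hσl]
  have hdiag : ∀ z w : Z3, z ≠ w → HZ z w = 0 := fun z w hne => by
    have h := hinv a ha
    rw [hca] at h
    have h' := congrFun (congrFun h z) w
    rw [hent, add_zero, add_zero, one_mul, one_mul, mul_right_comm, ← Units.val_mul, ← K.e_add] at h'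
    by_contra h0
    have he : (K.e (-z + w) : F) = K.e 0 := by rw [Root.eval0]; exact mul_right_cancel₀ h0 (h'.trans (one_mul _).symm)
    exact hne (by linear_combination -(K.e_val_inj he))
  have hshift : ∀ z : Z3, HZ z z = HZ 0 0 := by
    have h : ∀ z : Z3, HZ (z + 1) (z + 1) = HZ z z := fun z => by
      have h := hinv b hb
      rw [hcb] at h
      have h' := congrFun (congrFun h z) z
      rw [hent] at h'
      simpa [Root.eval0] using h'
    intro z
    rcases z3_cases z with rfl | rfl | rfl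
    · rfl
    · exact h 0
    · exact (h 1).trans (h 0)
  obtain ⟨h₀, hHs⟩ : ∃ h₀ : F, H = h₀ • (1 : Matrix (Fin 3) (Fin 3) F) := by
    refine ⟨HZ 0 0, Matrix.ext fun i j => ?_⟩
    rw [Matrix.smul_apply, Matrix.one_apply, smul_eq_mul, ← hHZ]
    by_cases h : i = j
    · subst h; rw [if_pos rfl, mul_one]; exact hshift i
    · rw [if_neg h, mul_zero]; exact hdiag i j h
  have hh0 : h₀ ≠ 0 := fun e => by
    rw [e, zero_smul] at hHs
    have hu : IsUnit H.det := by
      have hG : IsUnit (G : Matrix (Fin 3) (Fin 3) F).det := (Matrix.isUnit_iff_isUnit_det _).1 G.isUnit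
      rw [hH, Matrix.det_mul, ctr, Matrix.det_transpose, ← RingHom.mapMatrix_apply, ← RingHom.map_det]
      exact (hG.map σ).mul hG
    rw [hHs, Matrix.det_zero] at hu
    exact not_isUnit_zero hu
  have hUc : ∀ x : GL (Fin 3) F, c x ∈ U3 σ ↔ x ∈ U3 σ := fun x => by
    have hd : c x ∈ U3 σ ↔ G⁻¹ * x * G ∈ U3 σ := by rw [mem_U3, mem_U3, hcv]; exact Iff.rfl
    rw [hd, mem_U3, mem_U3]
    have h := hGd x
    rw [hHs, Matrix.mul_smul, Matrix.mul_one, Matrix.smul_mul] at h
    constructor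
    · intro hx
      rw [hx, ← hHs, hH] at h
      have hG : ∀ X Y : Matrix (Fin 3) (Fin 3) F, ctr σ (G : Matrix (Fin 3) (Fin 3) F) * X * (G : Matrix (Fin 3) (Fin 3) F) =
          ctr σ (G : Matrix (Fin 3) (Fin 3) F) * Y * (G : Matrix (Fin 3) (Fin 3) F) → X = Y := fun X Y e => by
        have e1 : ctr σ ((G⁻¹ : GL (Fin 3) F) : Matrix (Fin 3) (Fin 3) F) * ctr σ (G : Matrix (Fin 3) (Fin 3) F) = 1 := by
          rw [← ctr_mul, ← Units.val_mul, mul_inv_cancel, Units.val_one, ctr_one]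
        have e3 := congrArg (fun Z : Matrix (Fin 3) (Fin 3) F =>
          ctr σ ((G⁻¹ : GL (Fin 3) F) : Matrix (Fin 3) (Fin 3) F) * Z * ((G⁻¹ : GL (Fin 3) F) : Matrix (Fin 3) (Fin 3) F)) e
        simp only [← Matrix.mul_assoc, e1, Matrix.one_mul] at e3
        simpa only [Matrix.mul_assoc, ← Units.val_mul, mul_inv_cancel, Units.val_one, Matrix.mul_one] using e3
      exact hG _ _ (h.symm.trans (by rw [Matrix.mul_one]))
    · intro hx
      rw [hx, Matrix.mul_one, ← hH] at h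
      exact smul_right_injective _ hh0 (h.trans hHs)
  have hiso : ∀ x : GL (Fin 3) F, (∀ u v, hermB 3 σ (glEquiv (Fin 3) F x u) (glEquiv (Fin 3) F x v) = hermB 3 σ u v) ↔
      c x ∈ U3 σ := fun x => by
    rw [hUc, mem_U3, ← iso_iff_ctr]
    simp only [glEquiv_apply]
  have hRg : R.map c.toMonoidHom = Hessian.Rg K := by
    refine Subgroup.eq_of_le_of_card_ge ?_ ?_
    · rw [← hcl, MonoidHom.map_closure, Subgroup.closure_le]
      rintro _ ⟨x, rfl | rfl, rfl⟩
      · show c x ∈ Hessian.Rg K; rw [hca]; exact Hessian.W_mem_Rg K 1 0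
      · show c x ∈ Hessian.Rg K; rw [hcb]; exact Hessian.W_mem_Rg K 0 1
    · rw [Hessian.card_Rg K, Nat.card_congr (R.equivMapOfInjective c.toMonoidHom c.injective).toEquiv.symm, h27]
  have hnor : ∀ x : GL (Fin 3) F, x ∈ Cfsg.Geo.subgroupNormalizer R ↔ K.Nor (c x) := by
    intro x
    rw [← Hessian.mem_normalizer_Rg, ← hRg]
    show x ∈ Subgroup.normalizer (R : Set (GL (Fin 3) F)) ↔ _
    rw [Subgroup.mem_normalizer_iff, Subgroup.mem_normalizer_iff]
    constructor
    · intro h y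
      obtain ⟨y', rfl⟩ := c.surjective y
      rw [← map_mul, ← map_inv, ← map_mul, Subgroup.mem_map_equiv, Subgroup.mem_map_equiv, c.symm_apply_apply,
        c.symm_apply_apply]
      exact h y'
    · intro h y
      have := h (c y)
      rwa [← map_mul, ← map_inv, ← map_mul, Subgroup.mem_map_equiv, Subgroup.mem_map_equiv, c.symm_apply_apply,
        c.symm_apply_apply] at this
  refine isMaximalIn_su3 hσ hσq (exists_fixed hF hσq (by omega)) _ ?_ fun M hM hHM hg => ?_
  · -- a transvection outside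
    obtain ⟨v, -, hv, hv0⟩ := Unitary.exists_singular hB [] (by rw [Module.finrank_fin_fun]; simp)
    obtain ⟨k, hk0, hk⟩ := Herm.exists_skew hσ
    have hks : k + σ k = 0 := by rw [hk, add_neg_cancel]
    refine ⟨v, hv, k, hks, fun hmem => ?_⟩
    set t := (glEquiv (Fin 3) F).symm (Herm.tvU hv k) with ht
    have htx : ∀ x, t.1 *ᵥ x = x + (k * hermB 3 σ v x) • v := fun x => by
      rw [← glEquiv_apply, ht, MulEquiv.apply_symm_apply, Herm.tvU_apply]
    have hsq : ((t.1 : Matrix (Fin 3) (Fin 3) F) - 1) * (t.1 - 1) = 0 := Matrix.ext_iff_mulVec.2 fun x => by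
      simp only [← Matrix.mulVec_mulVec, Matrix.sub_mulVec, Matrix.one_mulVec, htx, add_sub_cancel_left, map_smul, hv,
        smul_eq_mul, mul_zero, zero_smul, Matrix.zero_mulVec]
    have htp : t ^ p = 1 := by
      refine Units.ext ?_
      rw [Units.val_pow_eq_pow_val, Units.val_one, ← sub_eq_zero]
      calc (t.1 : Matrix (Fin 3) (Fin 3) F) ^ p - 1 = (t.1 - 1) ^ p := by
            rw [sub_pow_char_of_commute p (Commute.one_right _), one_pow]
        _ = 0 := pow_eq_zero_of_le hp.two_le (by rw [pow_two]; exact hsq)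
    have hsu := Herm.tvU_mem hB hv hks
    have hdt : (t : Matrix (Fin 3) (Fin 3) F).det = 1 := by
      have h := congrArg (fun u : Fˣ => (u : F)) hsu.2
      simp only [LinearEquiv.coe_det, Units.val_one] at h
      rw [← h, ← LinearMap.det_toLin' (t : Matrix (Fin 3) (Fin 3) F)]
      refine congrArg _ (LinearMap.ext fun x => ?_)
      rw [Matrix.toLin'_apply, htx]; rfl
    have h1 := eq_one_of_nor K hp (by omega) hp3 (t := c t) (by rw [← map_pow, htp, map_one]) (by rw [hdet, hdt])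
      ((hnor t).1 hmem)
    rw [← map_one c] at h1
    have h1' := c.injective h1
    obtain ⟨x, hx⟩ : ∃ x, hermB 3 σ v x ≠ 0 := by by_contra! h; exact hv0 (hB.nondeg v h)
    have := htx x
    rw [h1', Units.val_one, Matrix.one_mulVec, left_eq_add] at this
    rcases smul_eq_zero.1 this with h | h
    · exact (mul_ne_zero hk0 hx) h
    · exact hv0 h
  -- the overgroup
  set M' : Subgroup (GL Z3 F) := (M.comap (glEquiv (Fin 3) F).toMonoidHom).map c.toMonoidHom with hM'
  have hmemM : ∀ x : GL (Fin 3) F, glEquiv (Fin 3) F x ∈ M → c x ∈ M' := fun x hx => Subgroup.mem_map_of_mem _ hx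
  have hMe : ∀ x ∈ M', ∃ x', glEquiv (Fin 3) F x' ∈ M ∧ c x' = x := by
    rintro _ ⟨x, hx, rfl⟩; exact ⟨x, hx, rfl⟩
  have hdet' : ∀ x : GL (Fin 3) F, LinearMap.det (glEquiv (Fin 3) F x).toLinearMap =
      (x : Matrix (Fin 3) (Fin 3) F).det := fun x => by
    rw [← LinearMap.det_toLin' (x : Matrix (Fin 3) (Fin 3) F)]; rfl
  have hback : ∀ x : GL Z3 F, K.Nor x → x ∈ U3 σ → (x : Matrix Z3 Z3 F).det = 1 → x ∈ M' := by
    intro x hx hxU hx1
    obtain ⟨x', rfl⟩ := c.surjective x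
    refine hmemM _ (hHM _ ((hiso x').2 hxU) ?_ (by rw [MulEquiv.symm_apply_apply]; exact (hnor x').2 hx))
    rw [hdet', ← hdet, hx1]
  have hM'U : M' ≤ U3 σ := fun x hx => by
    obtain ⟨x', hx', rfl⟩ := hMe x hx
    exact (hiso x').1 (hM hx').1
  have hsl : ∀ x ∈ M', (x : Matrix Z3 Z3 F).det = 1 := fun x hx => by
    obtain ⟨x', hx', rfl⟩ := hMe x hx
    rw [hdet, ← hdet', ← LinearEquiv.coe_det, (hM hx').2, Units.val_one]
  have hW : ∀ a b, K.W a b ∈ M' := fun a b => hback _ (K.nor_W a b) (W_mem K hσl a b) (K.det_W a b)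
  have hF' : K.Dg 1 * K.Fr * (K.Dg 1)⁻¹ ∈ M' :=
    hback _ (K.nor_mul (K.nor_mul (Hessian.nor_Dg K 1 rfl) K.nor_Fr) (K.nor_inv (Hessian.nor_Dg K 1 rfl)))
      (mul_mem (mul_mem (Dg_mem K hσl 1) (Fr_mem K hσl)) (inv_mem (Dg_mem K hσl 1)))
      (by rw [Units.val_mul, Units.val_mul, Matrix.det_units_conj, K.det_Fr])
  by_cases hnt : ∀ g ∈ M', ((g : Matrix Z3 Z3 F) - 1) * ((g : Matrix Z3 Z3 F) - 1) = 0 → g = 1
  · exfalso
    obtain ⟨g, hgM, hgK⟩ := hg
    obtain ⟨g', rfl⟩ := (glEquiv (Fin 3) F).surjective g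
    refine hgK ?_
    rw [MulEquiv.symm_apply_apply, hnor]
    exact Hessian.core (p := p) (by omega)
      { sl := hsl
        hW := hW
        hT := hback _ K.nor_T (T_mem K hσl) Root.det_T
        hFr := hback _ K.nor_Fr (Fr_mem K hσl) K.det_Fr
        hF' := hF'
        nt := hnt } (small_of_nt (by omega) hFq hM'U hnt) _ (hmemM g' hgM)
  push Not at hnt
  obtain ⟨g, hgM, hg2, hg1⟩ := hnt
  obtain ⟨g', hg', rfl⟩ := hMe g hgM
  have hsq : ((g'.1 : Matrix (Fin 3) (Fin 3) F) - 1) * (g'.1 - 1) = 0 := by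
    set d : Matrix (Fin 3) (Fin 3) F := ((G⁻¹ * g' * G : GL (Fin 3) F) : Matrix (Fin 3) (Fin 3) F) - 1 with hd
    have hd2 : d * d = 0 := by
      rw [hcv] at hg2
      exact hg2
    have e : (g'.1 : Matrix (Fin 3) (Fin 3) F) - 1 = G.1 * d * (G⁻¹ : GL (Fin 3) F).1 := by
      rw [hd, Matrix.mul_sub, Matrix.sub_mul, Matrix.mul_one, ← Units.val_mul, ← Units.val_mul, ← Units.val_mul,
        mul_inv_cancel, Units.val_one, show G * (G⁻¹ * g' * G) * G⁻¹ = g' by group]
    rw [e]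
    calc G.1 * d * (G⁻¹ : GL (Fin 3) F).1 * (G.1 * d * (G⁻¹ : GL (Fin 3) F).1)
        = G.1 * (d * ((G⁻¹ : GL (Fin 3) F).1 * G.1) * d) * (G⁻¹ : GL (Fin 3) F).1 := by simp only [Matrix.mul_assoc]
      _ = 0 := by rw [← Units.val_mul, inv_mul_cancel, Units.val_one, Matrix.mul_one, hd2, Matrix.mul_zero, Matrix.zero_mul]
  obtain ⟨e, he0, he⟩ := exists_centre_of_sq hB (by rw [Module.finrank_fin_fun]) hFq hg' (hM hg').1
    (fun h => hg1 (by rw [← map_one c]; exact congrArg _ ((glEquiv (Fin 3) F).injective (h.trans (map_one _).symm))))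
    (fun x => by
      have h := congrArg (fun A : Matrix (Fin 3) (Fin 3) F => A *ᵥ x) hsq
      simp only [← Matrix.mulVec_mulVec, Matrix.sub_mulVec, Matrix.one_mulVec, Matrix.zero_mulVec] at h
      simp only [glEquiv_apply]
      exact sub_eq_zero.1 h)
  refine centres_of_irreducible hB (Module.finrank_fin_fun F) (fun x hx => (hM hx).1) (fun U hU => ?_) he he0
  let L : (Fin 3 → F) →ₗ[F] (Fin 3 → F) := (G : Matrix (Fin 3) (Fin 3) F).mulVecLin
  have hGx : ∀ x, G.1 *ᵥ ((G⁻¹ : GL (Fin 3) F).1 *ᵥ x) = x := fun x => by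
    rw [Matrix.mulVec_mulVec, ← Units.val_mul, mul_inv_cancel, Units.val_one, Matrix.one_mulVec]
  have hstep : ∀ x' : GL (Fin 3) F, glEquiv (Fin 3) F x' ∈ M → ∀ u : Fin 3 → F, G.1 *ᵥ u ∈ U →
      G.1 *ᵥ ((G⁻¹ * x' * G : GL (Fin 3) F).1 *ᵥ u) ∈ U := fun x' hx' u hu => by
    rw [Matrix.mulVec_mulVec, ← Units.val_mul, show G * (G⁻¹ * x' * G) = x' * G by group, Units.val_mul,
      ← Matrix.mulVec_mulVec]
    exact hU _ hx' _ hu
  rcases Hessian.irreducible K hW (U.comap L) (fun x hx u hu => by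
      obtain ⟨x', hx', rfl⟩ := hMe x hx
      rw [hcv]
      exact hstep x' hx' u hu) with h | h
  · refine Or.inl ((Submodule.eq_bot_iff _).2 fun x hx => ?_)
    have h0 : (G⁻¹ : GL (Fin 3) F).1 *ᵥ x = 0 := (Submodule.eq_bot_iff (U.comap L)).1 h _ (by
      show G.1 *ᵥ _ ∈ U
      rw [hGx]; exact hx)
    rw [← hGx x, h0, Matrix.mulVec_zero]
  · refine Or.inr (eq_top_iff.2 fun x _ => ?_)
    have hmem : (G⁻¹ : GL (Fin 3) F).1 *ᵥ x ∈ U.comap L := (Submodule.eq_top_iff'.1 h) _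
    have h' : G.1 *ᵥ _ ∈ U := hmem
    rwa [hGx] at h'

end Cfsg.Agent.ClassicalMax.SU3.Hess
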